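import Groth.Agent.GenusZeroLib.Apps
import Groth.Agent.GenusZeroLib.TwoPoints
import Groth.Agent.ProjClosedLib.Map
import Groth.Agent.MiscFlat6.ProjBaseChange
import Groth.Agent.S3554
import Mathlib.RingTheory.TensorProduct.MvPolynomial

/-!
# Two marked points on the projective line
-/

set_option autoImplicit false
set_option linter.style.haveILetI false
universe u

open CategoryTheory CategoryTheory.Limits AlgebraicGeometry MvPolynomial GradedCechLib HomogeneousLocalization

noncomputable section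

namespace EdP1Lib

variable (K : Type u) [Field K]

/-- The grading. -/
abbrev 𝔓 := CohB1.polyGrading 1 K

/-- The projective line. -/
abbrev P1 : Scheme.{u} := CohB1.ProjSpace 1 K

/-- The images of the coordinates. -/
def linV (a b c d : K) : Fin 2 → MvPolynomial (Fin 2) K := ![C a * X 0 + C b * X 1, C c * X 0 + C d * X 1]

theorem linV_homogeneous (a b c d : K) (j : Fin 2) : (linV K a b c d j).IsHomogeneous 1 := by
  fin_cases j <;> exact ((isHomogeneous_X _ _).C_mul _).add ((isHomogeneous_X _ _).C_mul _)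

/-- A linear substitution. -/
def lin (a b c d : K) : 𝔓 K →+*ᵍ 𝔓 K :=
  { (MvPolynomial.aeval (linV K a b c d) : MvPolynomial (Fin 2) K →ₐ[K] MvPolynomial (Fin 2) K).toRingHom with
    map_mem := fun {i x} hx => by
      refine (mem_homogeneousSubmodule _ _).2 ?_
      have h := ((mem_homogeneousSubmodule _ _).1 hx).aeval (S := K) (n := 1) (linV K a b c d)
        (linV_homogeneous K a b c d)
      rw [one_mul] at h
      exact h }

theorem lin_X (a b c d : K) (i : Fin 2) :
    lin K a b c d (X i) = ![C a * X 0 + C b * X 1, C c * X 0 + C d * X 1] i :=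
  MvPolynomial.aeval_X _ i

theorem lin_C (a b c d r : K) : lin K a b c d (C r) = C r :=
  MvPolynomial.aeval_C _ r

theorem lin_comp (a b c d a' b' c' d' : K) (p : MvPolynomial (Fin 2) K) :
    lin K a' b' c' d' (lin K a b c d p) =
      lin K (a * a' + b * c') (a * b' + b * d') (c * a' + d * c') (c * b' + d * d') p := by
  induction p using MvPolynomial.induction_on with
  | C r => simp only [lin_C]
  | add p q hp hq => simp only [map_add, hp, hq]
  | mul_X p j hp =>
    simp only [map_mul, hp]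
    congr 1
    fin_cases j <;>
      simp only [Fin.zero_eta, Fin.mk_one, lin_X, Matrix.cons_val_zero, Matrix.cons_val_one, map_add, map_mul, lin_C,
        C_add, C_mul] <;> ring

theorem lin_one (p : MvPolynomial (Fin 2) K) : lin K 1 0 0 1 p = p := by
  induction p using MvPolynomial.induction_on with
  | C r => exact lin_C K _ _ _ _ r
  | add p q hp hq => simp only [map_add, hp, hq]
  | mul_X p j hp =>
    simp only [map_mul, hp]
    congr 1
    fin_cases j <;> simp [lin_X]

theorem exists_inverse {a b c d : K} (h : a * d - b * c ≠ 0) :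
    ∃ a' b' c' d' : K, (∀ p, lin K a' b' c' d' (lin K a b c d p) = p) ∧
      ∀ p, lin K a b c d (lin K a' b' c' d' p) = p := by
  refine ⟨d / (a * d - b * c), -b / (a * d - b * c), -c / (a * d - b * c), a / (a * d - b * c), fun p => ?_, fun p => ?_⟩
  all_goals rw [lin_comp]; refine Eq.trans ?_ (lin_one K p); congr 2 <;> first | ring1 | (rw [← div_self h]; ring1)

theorem map_congr {f g : 𝔓 K →+*ᵍ 𝔓 K} (e : f = g)
    (hf : HomogeneousIdeal.irrelevant (𝔓 K) ≤ (HomogeneousIdeal.irrelevant (𝔓 K)).map f)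
    (hg : HomogeneousIdeal.irrelevant (𝔓 K) ≤ (HomogeneousIdeal.irrelevant (𝔓 K)).map g) :
    Proj.map f hf = Proj.map g hg := by subst e; rfl

/-- An automorphism of the line from an invertible substitution. -/
theorem exists_aut {a b c d : K} (h : a * d - b * c ≠ 0) :
    ∃ e : P1 K ≅ P1 K, e.hom ≫ CohB1.ProjSpace.toSpec 1 K = CohB1.ProjSpace.toSpec 1 K ∧
      ∀ (i : Fin 2) (y : P1 K), e.hom y ∈ QCohLib.stdOpen 1 K i ↔
        y ∈ Proj.basicOpen (𝔓 K) (![C a * X 0 + C b * X 1, C c * X 0 + C d * X 1] i) := by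
  obtain ⟨a', b', c', d', h1, h2⟩ := exists_inverse K h
  let f := lin K a b c d
  let g := lin K a' b' c' d'
  have hf := ProjClosedLib.irrelevant_le_map f fun p => ⟨g p, h2 p⟩
  have hg := ProjClosedLib.irrelevant_le_map g fun p => ⟨f p, h1 p⟩
  let u := Proj.map f hf
  let v := Proj.map g hg
  have huv : u ≫ v = 𝟙 _ := by
    rw [← Proj.map_comp]
    exact (map_congr K (g := .id _) (DFunLike.ext _ _ h2) _ (by simp)).trans Proj.map_id
  have hvu : v ≫ u = 𝟙 _ := by
    rw [← Proj.map_comp]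
    exact (map_congr K (g := .id _) (DFunLike.ext _ _ h1) _ (by simp)).trans Proj.map_id
  haveI : IsIso (show P1 K ⟶ P1 K from u) := ⟨v, huv, hvu⟩
  refine ⟨asIso (show P1 K ⟶ P1 K from u), ?_, fun i y => ?_⟩
  · have hcomm : ∀ r : K, f (MiscFlat6.amb (𝔓 K) (algebraMap K (𝔓 K 0)) (RingHom.id K r)) =
        MiscFlat6.amb (𝔓 K) (algebraMap K (𝔓 K 0)) r := fun r => lin_C K a b c d r
    haveI : IsIso (CommRingCat.ofHom (f : MvPolynomial (Fin 2) K →+* MvPolynomial (Fin 2) K)) :=
      (RingEquiv.ofBijective (f : MvPolynomial (Fin 2) K →+* MvPolynomial (Fin 2) K)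
        (Function.bijective_iff_has_inverse.2 ⟨g, h1, h2⟩)).toCommRingCatIso.isIso_hom
    haveI : IsIso (CommRingCat.ofHom (RingHom.id K)) := inferInstanceAs (IsIso (𝟙 (CommRingCat.of K)))
    have H := MiscFlat6.isPullback_proj_baseChange (𝔓 K) (𝔓 K) f (algebraMap K (𝔓 K 0)) (algebraMap K (𝔓 K 0))
      (RingHom.id K) hf (fun r => lin_C K a b c d r)
      (IsPushout.of_horiz_isIso ⟨CommRingCat.hom_ext (RingHom.ext fun r => (lin_C K a b c d r).symm)⟩)
    have hw := H.w
    rw [show Spec.map (CommRingCat.ofHom (RingHom.id K)) = 𝟙 _ from Spec.map_id _, Category.comp_id] at hw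
    exact hw
  · show u y ∈ Proj.basicOpen (𝔓 K) (X i) ↔ _
    rw [← lin_X K a b c d i]
    rfl

theorem exists_form (w : Spec (CommRingCat.of K) ⟶ P1 K) (hw : w ≫ CohB1.ProjSpace.toSpec 1 K = 𝟙 _)
    (x : Spec (CommRingCat.of K)) :
    ∃ a b : K, (a ≠ 0 ∨ b ≠ 0) ∧ w x ∉ Proj.basicOpen (𝔓 K) (C a * X 0 + C b * X 1) := by
  obtain ⟨j, hj⟩ := TopologicalSpace.Opens.mem_iSup.mp ((QCohLib.iSup_stdOpen 1 K).ge (TopologicalSpace.Opens.mem_top (w x)))
  let A := HomogeneousLocalization.Away (𝔓 K) (X j : MvPolynomial (Fin 2) K)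
  have hr : Set.range w ⊆ Set.range (chartι 1 K j) := by
    rintro _ ⟨z, rfl⟩
    rw [Subsingleton.elim z x]
    show w x ∈ Set.range (Proj.awayι (𝔓 K) (X j) _ _)
    rw [← Scheme.Hom.coe_opensRange, Proj.opensRange_awayι]
    exact hj
  haveI : IsOpenImmersion (chartι 1 K j) := inferInstanceAs (IsOpenImmersion (Proj.awayι _ _ _ _))
  let w' := IsOpenImmersion.lift (chartι 1 K j) w hr
  obtain ⟨β, hβ⟩ := Spec.map_surjective w'
  have hwβ : Spec.map β ≫ chartι 1 K j = w := by rw [hβ, IsOpenImmersion.lift_fac]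
  have hcst : ∀ r : K, β (cst 1 K (X j) r) = r := by
    have h := hw
    rw [← hwβ] at h
    change (Spec.map β ≫ Proj.awayι (𝔓 K) (X j) _ _) ≫ Proj.toSpecZero (𝔓 K) ≫ _ = _ at h
    rw [Category.assoc, Proj.awayι_toSpecZero_assoc, ← Spec.map_comp, ← Spec.map_comp, ← Spec.map_id] at h
    exact fun r => RingHom.congr_fun (congrArg CommRingCat.Hom.hom (Spec.map_injective h)) r
  have hzero : ∀ p : MvPolynomial (Fin 2) K, p.IsHomogeneous 1 → β (deh₀ 1 K j p) = 0 →
      w x ∉ Proj.basicOpen (𝔓 K) p := by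
    intro p hp h0 hmem
    rw [← hwβ, Scheme.Hom.comp_apply] at hmem
    change Spec.map β x ∈ (Proj.awayι (𝔓 K) (X j : MvPolynomial (Fin 2) K) (X_mem 1 K j) one_pos) ⁻¹ᵁ
      Proj.basicOpen (𝔓 K) p at hmem
    rw [Proj.awayι_preimage_basicOpen (𝔓 K) (X_mem 1 K j) one_pos ((mem_homogeneousSubmodule _ _).2 hp) one_pos] at hmem
    apply hmem
    show β (Away.isLocalizationElem (X_mem 1 K j) ((mem_homogeneousSubmodule _ _).2 hp)) ∈ (x : PrimeSpectrum K).asIdeal
    have e : Away.isLocalizationElem (X_mem 1 K j) ((mem_homogeneousSubmodule _ _).2 hp) = deh₀ 1 K j p := by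
      refine HomogeneousLocalization.val_injective _ ?_
      rw [val_deh₀_homogeneous 1 K j p 1 hp]
      show Localization.mk _ _ = _
      congr 1
      · exact pow_one p
    rw [e, h0]
    exact Ideal.zero_mem _
  fin_cases j
  · refine ⟨-β (deh₀ 1 K 0 (X 1)), 1, Or.inr one_ne_zero, hzero _ (((isHomogeneous_X _ _).C_mul _).add ((isHomogeneous_X _ _).C_mul _)) ?_⟩
    simp only [Fin.zero_eta, map_add, map_mul, deh₀_X_self]
    rw [show ∀ r : K, deh₀ 1 K 0 (C r) = cst 1 K (X 0) r from fun r => eval₂Hom_C _ _ r,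
      show ∀ r : K, deh₀ 1 K 0 (C r) = cst 1 K (X 0) r from fun r => eval₂Hom_C _ _ r]
    simp only [map_neg, map_add, map_mul, map_one, mul_one, one_mul]
    erw [hcst]
    exact neg_add_cancel _
  · refine ⟨1, -β (deh₀ 1 K 1 (X 0)), Or.inl one_ne_zero, hzero _ (((isHomogeneous_X _ _).C_mul _).add ((isHomogeneous_X _ _).C_mul _)) ?_⟩
    simp only [Fin.mk_one, map_add, map_mul, deh₀_X_self]
    rw [show ∀ r : K, deh₀ 1 K 1 (C r) = cst 1 K (X 1) r from fun r => eval₂Hom_C _ _ r,
      show ∀ r : K, deh₀ 1 K 1 (C r) = cst 1 K (X 1) r from fun r => eval₂Hom_C _ _ r]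
    simp only [map_neg, map_add, map_mul, map_one, mul_one, one_mul]
    erw [hcst]
    exact add_neg_cancel _

/-- Only one point lies outside a standard chart. -/
theorem unique_zero (i : Fin 2) {y z : P1 K} (hy : y ∉ QCohLib.stdOpen 1 K i) (hz : z ∉ QCohLib.stdOpen 1 K i) :
    y = z := by
  suffices key : ∀ y : ProjectiveSpectrum (𝔓 K), (X i : MvPolynomial (Fin 2) K) ∈ y.asHomogeneousIdeal →
      y.asHomogeneousIdeal.toIdeal = Ideal.span {(X i : MvPolynomial (Fin 2) K)} by
    have hy' : (X i : MvPolynomial (Fin 2) K) ∈ (y : ProjectiveSpectrum (𝔓 K)).asHomogeneousIdeal := not_not.1 hy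
    have hz' : (X i : MvPolynomial (Fin 2) K) ∈ (z : ProjectiveSpectrum (𝔓 K)).asHomogeneousIdeal := not_not.1 hz
    exact ProjectiveSpectrum.ext (HomogeneousIdeal.toIdeal_injective ((key y hy').trans (key z hz').symm))
  intro y hyi
  refine le_antisymm (fun p hp => ?_) ((Ideal.span_singleton_le_iff_mem _).2 hyi)
  rw [← sum_homogeneousComponent p]
  refine Ideal.sum_mem _ fun d _ => ?_
  have hq : homogeneousComponent d p ∈ y.asHomogeneousIdeal.toIdeal := by
    have h := y.asHomogeneousIdeal.isHomogeneous d hp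
    rwa [← MvPolynomial.decomposition.decompose'_apply]
  set q := homogeneousComponent d p with hqdef
  have hqh : q.IsHomogeneous d := homogeneousComponent_isHomogeneous d p
  let j : Fin 2 := if i = 0 then 1 else 0
  have hij : ∀ l : Fin 2, l ≠ i → l = j := by intro l hl; fin_cases i <;> fin_cases l <;> simp_all [j]
  let r := q - C (coeff (Finsupp.single j d) q) * X j ^ d
  have hr : r ∈ Ideal.span {(X i : MvPolynomial (Fin 2) K)} := by
    rw [show ({(X i : MvPolynomial (Fin 2) K)} : Set _) = X '' {i} from (Set.image_singleton).symm,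
      mem_ideal_span_X_image]
    intro m hm
    refine ⟨i, rfl, fun hmi => ?_⟩
    rw [mem_support_iff, coeff_sub, X_pow_eq_monomial, C_mul_monomial, mul_one, coeff_monomial] at hm
    have hmj : m = Finsupp.single j (m j) := Finsupp.ext fun l => by
      by_cases hl : l = j
      · subst hl; simp
      · rw [Finsupp.single_eq_of_ne hl]
        by_contra hne
        exact hl (hij l fun hli => hne (hli ▸ hmi))
    by_cases hd : Finsupp.single j d = m
    · rw [if_pos hd, hd, sub_self] at hm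
      exact hm rfl
    · rw [if_neg hd, sub_zero] at hm
      apply hd
      have := hqh.degree_eq_sum_deg_support (mem_support_iff.2 hm)
      change d = m.degree at this
      rw [hmj, Finsupp.degree_single] at this
      rw [hmj, ← this]
  by_cases hc : coeff (Finsupp.single j d) q = 0
  · have : r = q := by simp [r, hc]
    rwa [this] at hr
  · exfalso
    have hmem : C (coeff (Finsupp.single j d) q) * X j ^ d ∈ y.asHomogeneousIdeal.toIdeal := by
      have := sub_mem hq ((Ideal.span_singleton_le_iff_mem _).2 hyi hr)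
      simpa [r] using this
    have hX : X j ^ d ∈ y.asHomogeneousIdeal.toIdeal :=
      (Ideal.unit_mul_mem_iff_mem _ ((isUnit_iff_ne_zero.2 hc).map C)).1 hmem
    have hXj : X j ∈ y.asHomogeneousIdeal.toIdeal := y.isPrime.mem_of_pow_mem d hX
    obtain ⟨l, hl⟩ := TopologicalSpace.Opens.mem_iSup.mp ((QCohLib.iSup_stdOpen 1 K).ge (TopologicalSpace.Opens.mem_top (y : P1 K)))
    rcases eq_or_ne l i with rfl | hne
    · exact hl hyi
    · exact hl (hij l hne ▸ hXj)

theorem exists_lin_aut {a b : K} (h : a ≠ 0 ∨ b ≠ 0) : ∃ c d : K, a * d - b * c ≠ 0 := by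
  rcases h with h | h
  · exact ⟨0, 1, by simpa⟩
  · exact ⟨1, 0, by simpa⟩

theorem unique_zero_form {a b : K} (h : a ≠ 0 ∨ b ≠ 0) {y z : P1 K}
    (hy : y ∉ Proj.basicOpen (𝔓 K) (C a * X 0 + C b * X 1)) (hz : z ∉ Proj.basicOpen (𝔓 K) (C a * X 0 + C b * X 1)) :
    y = z := by
  obtain ⟨c, d, hdet⟩ := exists_lin_aut K h
  obtain ⟨e, -, he⟩ := exists_aut K hdet
  refine e.hom.homeomorph.injective ?_
  exact unique_zero K 0 (fun h' => hy ((he 0 y).1 h')) (fun h' => hz ((he 0 z).1 h'))

/-- A point outside the chart `i`. -/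
theorem exists_std (i : Fin 2) : ∃ w : Spec (CommRingCat.of K) ⟶ P1 K, w ≫ CohB1.ProjSpace.toSpec 1 K = 𝟙 _ ∧
    ∀ x, w x ∉ QCohLib.stdOpen 1 K i := by
  let j : Fin 2 := if i = 0 then 1 else 0
  have hji : j.succAbove 0 = i := by fin_cases i <;> rfl
  let e := RingEquiv.ofBijective (GenusZeroLib.chartPoly 1 K j) (GenusZeroLib.chartPoly_bijective 1 K j)
  let α : HomogeneousLocalization.Away (𝔓 K) (X j : MvPolynomial (Fin 2) K) →+* K :=
    (eval (fun _ => (0 : K))).comp e.symm.toRingHom
  refine ⟨Spec.map (CommRingCat.ofHom α) ≫ chartι 1 K j, ?_, fun x hx => ?_⟩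
  · change (Spec.map _ ≫ Proj.awayι _ _ _ _) ≫ Proj.toSpecZero (𝔓 K) ≫ _ = _
    rw [Category.assoc, Proj.awayι_toSpecZero_assoc, ← Spec.map_comp, ← Spec.map_comp, ← Spec.map_id]
    congr 1
    refine CommRingCat.hom_ext (RingHom.ext fun r => ?_)
    change eval _ (e.symm (cst 1 K (X j) r)) = r
    rw [show cst 1 K (X j) r = e (C r) from by simp [e, GenusZeroLib.chartPoly], e.symm_apply_apply]
    simp
  · rw [Scheme.Hom.comp_apply] at hx
    change Spec.map (CommRingCat.ofHom α) x ∈ (Proj.awayι (𝔓 K) (X j : MvPolynomial (Fin 2) K) (X_mem 1 K j) one_pos) ⁻¹ᵁ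
      Proj.basicOpen (𝔓 K) (X i) at hx
    rw [Proj.awayι_preimage_basicOpen (𝔓 K) (X_mem 1 K j) one_pos (X_mem 1 K i) one_pos] at hx
    apply hx
    show α _ ∈ (x : PrimeSpectrum K).asIdeal
    have e1 : Away.isLocalizationElem (X_mem 1 K j) (X_mem 1 K i) = e (X 0) := by
      refine HomogeneousLocalization.val_injective _ ?_
      rw [show e (X 0) = deh₀ 1 K j (X (j.succAbove 0)) from eval₂Hom_X' _ _ _, hji, val_deh₀_X]
      show Localization.mk _ _ = _
      congr 1
      · exact pow_one _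
    have e2 : α (e (X 0)) = 0 := by simp [α]
    rw [e1, e2]
    exact Ideal.zero_mem _

end EdP1Lib
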