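import Groth.Agent.EdP1Lib.P1
import Groth.Agent.VeryAmpleLib.Bc
import Groth.Agent.CurveVBLib.Integral
import Groth.Agent.GenusZeroLib.RatData
import Groth.Agent.FibVALib.Map
import Groth.Agent.WeilResLib.GeomConn
import Groth.Agent.S11577
import Groth.Prelude.Def_StCurv

/-!
# Pointed curves of genus zero are the standard one
-/

set_option autoImplicit false
set_option linter.style.haveILetI false
universe u

open CategoryTheory CategoryTheory.Limits AlgebraicGeometry MvPolynomial GradedCechLib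

noncomputable section

namespace EdP1Lib

variable (K : Type u) [Field K]

attribute [local instance] MvPolynomial.algebraMvPolynomial

/-- Base change of the line, coordinates going to coordinates. -/
theorem exists_bc {L : Type u} [Field L] (ρ : K →+* L) :
    ∃ (j : P1 L ⟶ P1 K) (_ : IsPullback j (CohB1.ProjSpace.toSpec 1 L) (CohB1.ProjSpace.toSpec 1 K)
      (Spec.map (CommRingCat.ofHom ρ))), ∀ (i : Fin 2) (y : P1 L), j y ∈ QCohLib.stdOpen 1 K i ↔ y ∈ QCohLib.stdOpen 1 L i := by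
  letI : Algebra K L := ρ.toAlgebra
  let φ : 𝔓 K →+*ᵍ 𝔓 L :=
    { MvPolynomial.map (σ := Fin (1 + 1)) (algebraMap K L) with
      map_mem := fun {i x} hx => MvPolynomial.IsHomogeneous.map hx _ }
  have hφA : ∀ b, φ b = algebraMap (MvPolynomial (Fin (1 + 1)) K) (MvPolynomial (Fin (1 + 1)) L) b := fun b => rfl
  have hX : ∀ i, φ (X i) = X i := fun i => MvPolynomial.map_X _ _
  have hirr : HomogeneousIdeal.irrelevant (𝔓 L) ≤ (HomogeneousIdeal.irrelevant (𝔓 K)).map φ := by
    intro x hx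
    have hx0 : MvPolynomial.homogeneousComponent 0 x = 0 := by
      have := (HomogeneousIdeal.mem_irrelevant_iff _ x).mp hx
      exact (MvPolynomial.decomposition.decompose'_apply x 0).symm.trans this
    have hxs : x ∈ Ideal.span ((MvPolynomial.X (R := L)) '' (Set.univ : Set (Fin (1 + 1)))) := by
      rw [MvPolynomial.mem_ideal_span_X_image]
      intro m hm
      by_contra! hcon
      have hm0 : m = 0 := Finsupp.ext fun i => hcon i trivial
      rw [MvPolynomial.homogeneousComponent_zero, MvPolynomial.C_eq_zero] at hx0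
      exact MvPolynomial.mem_support_iff.mp hm (hm0 ▸ hx0)
    refine (Ideal.span_le.mpr ?_) hxs
    rintro - ⟨i, -, rfl⟩
    exact hX i ▸ Ideal.mem_map_of_mem φ (HomogeneousIdeal.mem_irrelevant_of_mem (𝔓 K)
      one_pos (MvPolynomial.isHomogeneous_X K i))
  refine ⟨Proj.map φ hirr, Groth.Agent.S3554.result (R := L) (R' := K) (𝔓 K) (𝔓 L) φ hφA hirr, fun i y => ?_⟩
  show y ∈ Proj.map φ hirr ⁻¹ᵁ Proj.basicOpen (𝔓 K) (X i) ↔ y ∈ Proj.basicOpen (𝔓 L) (X i)
  rw [Proj.map_preimage_basicOpen, hX]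

theorem isCurveOfGenus_P1 : ModFun.IsCurveOfGenus 0 (CohB1.ProjSpace.toSpec 1 K) := by
  refine ⟨GenusZeroLib.smooth_toSpec 1 K, ProjDegLib.toSpec_isProper K 1, ⟨fun L _ y Y fst snd H => ?_⟩,
    fun Ω _ _ t Y fst snd H => ?_⟩
  · obtain ⟨φ, rfl⟩ := Spec.map_surjective y
    obtain ⟨j, hj, -⟩ := exists_bc K φ.hom
    haveI : IrreducibleSpace (P1 L) := GenusZeroLib.irreducibleSpace_projSpace L 1
    exact (H.isoIsPullback _ _ hj).hom.homeomorph.irreducibleSpace_iff.2 inferInstance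
  · obtain ⟨φ, rfl⟩ := Spec.map_surjective t
    obtain ⟨j, hj, -⟩ := exists_bc K φ.hom
    let e := H.isoIsPullback _ _ hj
    refine ⟨(IsHomeomorph.topologicalKrullDim_eq _ e.hom.homeomorph.isHomeomorph).trans
      ((GenusZeroLib.dim_projSpace Ω 1).trans (by rfl)), ?_⟩
    letI : Y.Over (Spec (CommRingCat.of Ω)) := ⟨snd⟩
    haveI := GenusZeroLib.subsingleton_h1_of_iso (k := Ω) e
    show Module.finrank Ω _ = 0
    exact Module.finrank_zero_of_subsingleton

theorem zero_or_one (y : P1 K) : y ∈ QCohLib.stdOpen 1 K 0 ∨ y ∈ QCohLib.stdOpen 1 K 1 := by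
  obtain ⟨i, hi⟩ := TopologicalSpace.Opens.mem_iSup.mp ((QCohLib.iSup_stdOpen 1 K).ge (TopologicalSpace.Opens.mem_top y))
  fin_cases i
  · exact Or.inl hi
  · exact Or.inr hi

/-- Two distinct rational points move to the two coordinate points. -/
theorem exists_aut_two (w₀ w₁ : Spec (CommRingCat.of K) ⟶ P1 K) (h₀ : w₀ ≫ CohB1.ProjSpace.toSpec 1 K = 𝟙 _)
    (h₁ : w₁ ≫ CohB1.ProjSpace.toSpec 1 K = 𝟙 _) (x : Spec (CommRingCat.of K)) (hne : w₀ x ≠ w₁ x) :
    ∃ e : P1 K ≅ P1 K, e.hom ≫ CohB1.ProjSpace.toSpec 1 K = CohB1.ProjSpace.toSpec 1 K ∧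
      e.hom (w₀ x) ∉ QCohLib.stdOpen 1 K 0 ∧ e.hom (w₁ x) ∉ QCohLib.stdOpen 1 K 1 := by
  obtain ⟨a, b, hab, ha⟩ := exists_form K w₀ h₀ x
  obtain ⟨c, d, hcd, hc⟩ := exists_form K w₁ h₁ x
  have hdet : a * d - b * c ≠ 0 := by
    intro hdet
    obtain ⟨t, ht, htc, htd⟩ : ∃ t : K, t ≠ 0 ∧ c = t * a ∧ d = t * b := by
      rcases hab with ha' | hb'
      · have e1 : d = c / a * b := by field_simp; linear_combination hdet
        refine ⟨c / a, fun h => ?_, (div_mul_cancel₀ c ha').symm, e1⟩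
        rw [h, zero_mul] at e1
        rcases hcd with h' | h'
        · exact h' ((div_eq_zero_iff.1 h).resolve_right ha')
        · exact h' e1
      · have e1 : c = d / b * a := by field_simp; linear_combination -hdet
        refine ⟨d / b, fun h => ?_, e1, (div_mul_cancel₀ d hb').symm⟩
        rw [h, zero_mul] at e1
        rcases hcd with h' | h'
        · exact h' e1
        · exact h' ((div_eq_zero_iff.1 h).resolve_right hb')
    refine hne (unique_zero_form K hab ha fun hmem => hc ?_)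
    erw [show (C c * X 0 + C d * X 1 : MvPolynomial (Fin 2) K) = C t * (C a * X 0 + C b * X 1) by
      rw [htc, htd, C_mul, C_mul]; ring, Proj.basicOpen_mul]
    refine ⟨fun hC => ?_, hmem⟩
    exact (w₁ x : ProjectiveSpectrum (𝔓 K)).isPrime.ne_top
      (Ideal.eq_top_of_isUnit_mem _ hC ((isUnit_iff_ne_zero.2 ht).map C))
  obtain ⟨e, he, hmem⟩ := exists_aut K hdet
  exact ⟨e, he, fun h => ha ((hmem 0 _).1 h), fun h => hc ((hmem 1 _).1 h)⟩

/-- At most two distinct rational points are the coordinate points in suitable coordinates. -/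
theorem exists_aut_pts {n : ℕ} (hn : n ≤ 2) (w : Fin n → (Spec (CommRingCat.of K) ⟶ P1 K))
    (hw : ∀ i, w i ≫ CohB1.ProjSpace.toSpec 1 K = 𝟙 _) (x : Spec (CommRingCat.of K))
    (hne : ∀ i j, i ≠ j → w i x ≠ w j x) :
    ∃ e : P1 K ≅ P1 K, e.hom ≫ CohB1.ProjSpace.toSpec 1 K = CohB1.ProjSpace.toSpec 1 K ∧
      ∀ i, e.hom (w i x) ∉ QCohLib.stdOpen 1 K (Fin.castLE hn i) := by
  rcases (show n = 0 ∨ n = 1 ∨ n = 2 by omega) with rfl | rfl | rfl
  · exact ⟨Iso.refl _, Category.id_comp _, fun i => i.elim0⟩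
  · obtain ⟨s₀, hs₀, hz₀⟩ := exists_std K 0
    obtain ⟨s₁, hs₁, hz₁⟩ := exists_std K 1
    have key : s₀ x ≠ s₁ x := fun h => (zero_or_one K (s₀ x)).elim (hz₀ x) (h ▸ hz₁ x)
    by_cases h : w 0 x = s₀ x
    · obtain ⟨e, he, h0, -⟩ := exists_aut_two K (w 0) s₁ (hw 0) hs₁ x (h ▸ key)
      exact ⟨e, he, fun i => by obtain rfl := Subsingleton.elim i 0; exact h0⟩
    · obtain ⟨e, he, h0, -⟩ := exists_aut_two K (w 0) s₀ (hw 0) hs₀ x h
      exact ⟨e, he, fun i => by obtain rfl := Subsingleton.elim i 0; exact h0⟩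
  · obtain ⟨e, he, h0, h1⟩ := exists_aut_two K (w 0) (w 1) (hw 0) (hw 1) x (hne 0 1 (by decide))
    refine ⟨e, he, fun i => ?_⟩
    fin_cases i
    · exact h0
    · exact h1

variable {K}

/-- A curve of genus zero with a rational point is the line. -/
theorem exists_iso_P1 {C : Scheme.{u}} (f : C ⟶ Spec (CommRingCat.of K)) (hf : ModFun.IsCurveOfGenus 0 f)
    (w : Spec (CommRingCat.of K) ⟶ C) (hw : w ≫ f = 𝟙 _) :
    ∃ e : C ≅ P1 K, e.hom ≫ CohB1.ProjSpace.toSpec 1 K = f := by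
  obtain ⟨hsm, hpr, hgi, hfib⟩ := hf
  letI : C.Over (Spec (CommRingCat.of K)) := ⟨f⟩
  haveI : Smooth (C ↘ Spec (CommRingCat.of K)) := hsm
  haveI : IsProper (C ↘ Spec (CommRingCat.of K)) := hpr
  haveI : GeometricallyIrreducible (C ↘ Spec (CommRingCat.of K)) := hgi
  haveI : IrreducibleSpace C := GeometricallyIrreducible.irreducibleSpace_of_subsingleton (f := C ↘ Spec (CommRingCat.of K))
  haveI := CurvLib.isNoetherian K (X := C)
  haveI : ∀ x : C, IsDomain (C.presheaf.stalk x) := fun x =>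
    haveI := CurveVBLib.regular_stalk (k := K) x
    CommAlgDim.isDomain_of_isRegularLocalRing _
  haveI : IsIntegral C := CurveVBLib.isIntegral_of_connected
  let Ω := AlgebraicClosure K
  letI := VeryAmpleLib.bcOver K C Ω
  obtain ⟨hd, hg⟩ := hfib Ω (Spec.map (CommRingCat.ofHom (algebraMap K Ω))) (Curv2.bc K C Ω) _ _
    (VeryAmpleLib.isPullback_bc K C Ω)
  haveI : IsIntegral (Curv2.bc K C Ω) := by
    haveI : Smooth (Curv2.bc K C Ω ↘ Spec (CommRingCat.of Ω)) :=
      MorphismProperty.of_isPullback (VeryAmpleLib.isPullback_bc K C Ω) hsm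
    haveI : IsProper (Curv2.bc K C Ω ↘ Spec (CommRingCat.of Ω)) :=
      MorphismProperty.of_isPullback (VeryAmpleLib.isPullback_bc K C Ω) hpr
    haveI : IrreducibleSpace (Curv2.bc K C Ω) :=
      GeometricallyIrreducible.geometrically_irreducibleSpace (f := C ↘ Spec (CommRingCat.of K)) _ _ _
        (VeryAmpleLib.isPullback_bc K C Ω)
    haveI := CurvLib.isNoetherian Ω (X := Curv2.bc K C Ω)
    haveI : ∀ x : Curv2.bc K C Ω, IsDomain ((Curv2.bc K C Ω).presheaf.stalk x) := fun x =>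
      haveI := CurveVBLib.regular_stalk (k := Ω) x
      CommAlgDim.isDomain_of_isRegularLocalRing _
    exact CurveVBLib.isIntegral_of_connected
  have hdim : topologicalKrullDim C = 1 := (VeryAmpleLib.dim_bc K C Ω).symm.trans hd
  have hg0 : Curv2.genus K C = 0 := (VeryAmpleLib.genus_bc K C Ω).symm.trans hg
  haveI : Module.Finite K (Coh.HH C (Coh.structureModule C) 1) :=
    CurvLib.finite_HH (CurvLib.isCoh_of_isInvertible CurvLib.isInvertible_structureModule) 1
  rw [Curv2.genus] at hg0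
  exact GenusZeroLib.exists_iso_of_rational hdim ((Module.finrank_zero_iff (R := K)).mp hg0) w hw
    (IsLocalRing.closedPoint K)
    (GenusZeroLib.isIntegrallyClosed_of_mem_smoothLocus (k := K) (by
      rw [Scheme.Hom.smoothLocus_eq_top]; trivial)).2

/-- The standard family maps to every pointed curve of genus zero. -/
theorem exists_cart {L : Type u} [Field L] (ρ : K →+* L) {n : ℕ} (hn : n ≤ 2) (hn0 : 0 < n)
    (s : Fin n → (Spec (CommRingCat.of K) ⟶ P1 K)) (hs : ∀ i, s i ≫ CohB1.ProjSpace.toSpec 1 K = 𝟙 _)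
    (hsz : ∀ i x, s i x ∉ QCohLib.stdOpen 1 K (Fin.castLE hn i))
    {C : Scheme.{u}} (f : C ⟶ Spec (CommRingCat.of L)) (σ : Fin n → (Spec (CommRingCat.of L) ⟶ C))
    (hσ : ∀ i, σ i ≫ f = 𝟙 _) (hC : CurvSt.IsSmoothPtdFam f σ 0) :
    ∃ top : C ⟶ P1 K, IsPullback top f (CohB1.ProjSpace.toSpec 1 K) (Spec.map (CommRingCat.ofHom ρ)) ∧
      ∀ i, σ i ≫ top = Spec.map (CommRingCat.ofHom ρ) ≫ s i := by
  obtain ⟨e₁, he₁⟩ := exists_iso_P1 f hC.1 (σ ⟨0, hn0⟩) (hσ _)
  let x := IsLocalRing.closedPoint L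
  obtain ⟨e₂, he₂, hz⟩ := exists_aut_pts L hn (fun i => σ i ≫ e₁.hom) (fun i => by rw [Category.assoc, he₁, hσ]) x
    (fun i j hij h => hC.2 i j hij x (e₁.hom.homeomorph.injective h))
  obtain ⟨j, hj, hjmem⟩ := exists_bc K ρ
  let e := e₁ ≪≫ e₂
  have he : e.hom ≫ CohB1.ProjSpace.toSpec 1 L = f := by
    show (e₁.hom ≫ e₂.hom) ≫ _ = _
    rw [Category.assoc, he₂, he₁]
  refine ⟨e.hom ≫ j, ?_, fun i => ?_⟩
  · have h := (IsPullback.of_horiz_isIso (show CommSq e.hom f (CohB1.ProjSpace.toSpec 1 L) (𝟙 _) from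
      ⟨by rw [he, Category.comp_id]⟩)).paste_horiz hj
    rwa [Category.id_comp] at h
  · let t := hj.lift (Spec.map (CommRingCat.ofHom ρ) ≫ s i) (𝟙 _)
      (by rw [Category.assoc, hs, Category.comp_id, Category.id_comp])
    have ht : t x = (σ i ≫ e.hom) x := unique_zero L (Fin.castLE hn i)
      (fun h => by
        have h' := (hjmem _ _).2 h
        rw [← Scheme.Hom.comp_apply, IsPullback.lift_fst] at h'
        exact hsz i _ h')
      (hz i)
    have heq : t = σ i ≫ e.hom := GenusZeroLib.section_ext _ _ _ (IsPullback.lift_snd _ _ _ _)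
      (by rw [Category.assoc, he, hσ]) ht
    rw [← Category.assoc, ← heq, IsPullback.lift_fst]

/-- The standard pointed line is a smooth pointed family. -/
theorem isSmoothPtdFam_std {n : ℕ} (hn : n ≤ 2) (s : Fin n → (Spec (CommRingCat.of K) ⟶ P1 K))
    (hsz : ∀ i x, s i x ∉ QCohLib.stdOpen 1 K (Fin.castLE hn i)) :
    CurvSt.IsSmoothPtdFam (CohB1.ProjSpace.toSpec 1 K) s 0 := by
  refine ⟨isCurveOfGenus_P1 K, fun i j hij c h => ?_⟩
  have hci := hsz i c
  have hcj := hsz j c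
  rw [show (s j) c = (s i) c from h.symm] at hcj
  have hne : Fin.castLE hn i ≠ Fin.castLE hn j := fun e => hij (Fin.castLE_injective hn e)
  revert hci hcj hne
  generalize Fin.castLE hn i = a
  generalize Fin.castLE hn j = b
  intro hci hcj hne
  fin_cases a <;> fin_cases b <;> first
    | exact hne rfl
    | exact (zero_or_one K _).elim hci hcj
    | exact (zero_or_one K _).elim hcj hci

end EdP1Lib
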